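import Cfsg.Agent.H42.Lsp.Semi
import Cfsg.Agent.H355.TwoPoint
import Cfsg.Agent.H355.OddCase
import Cfsg.Agent.S0205
import Cfsg.Agent.S0042

/-!
# S3392: groups of fixity two with odd stabilizers and without solvable normal subgroups (LSP-J, helper42)
-/

set_option autoImplicit false
set_option linter.unusedSectionVars false

namespace Cfsg.Agent.H42.Lsp

open Subgroup MulAction Cfsg.Agent.H355 Cfsg.Agent.H355.Lsp Cfsg.Agent.H355.TwoPoint Cfsg.Agent.H355.TIHall
open scoped Pointwise commutatorElement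

universe u v

variable {Y : Type u} [Group Y] [Finite Y] {Ω : Type v} [Finite Ω] [MulAction Y Ω]

/-- the normalizer of an ETI subgroup of odd order is solvable -/
theorem normalizer_solvable {D : Subgroup Y} (hD : ETI D) (hodd : Odd (Nat.card D)) :
    Group.IsSolvable (normalizer (D : Set Y)) := by
  have h0 : D ≤ normalizer (D : Set Y) := le_normalizer
  have h1 : Group.IsSolvable (D.subgroupOf (normalizer (D : Set Y))) := by
    have h2 : Group.IsSolvable D := S0205.result hodd
    exact Group.isSolvable_of_surjective (f := (subgroupOfEquivOfLe h0).symm.toMonoidHom)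
      (subgroupOfEquivOfLe h0).symm.surjective
  have h2 : Group.IsSolvable (normalizer (D : Set Y) ⧸ D.subgroupOf (normalizer (D : Set Y))) := by
    refine Group.isSolvable_of_comm fun a b => ?_
    have hsq : ∀ a b : normalizer (D : Set Y) ⧸ D.subgroupOf (normalizer (D : Set Y)), a ≠ 1 → b ≠ 1 → a * b = 1 := by
      intro a b ha hb
      obtain ⟨x, rfl⟩ := QuotientGroup.mk_surjective a
      obtain ⟨y, rfl⟩ := QuotientGroup.mk_surjective b
      rw [← QuotientGroup.mk_mul]
      refine (QuotientGroup.eq_one_iff _).2 (hD.mul _ _ x.2 y.2 (fun h3 => ha ?_) (fun h3 => hb ?_))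
      · exact (QuotientGroup.eq_one_iff _).2 h3
      · exact (QuotientGroup.eq_one_iff _).2 h3
    by_cases ha : a = 1
    · rw [ha, one_mul, mul_one]
    · by_cases hb : b = 1
      · rw [hb, one_mul, mul_one]
      · rw [hsq a b ha hb, hsq b a hb ha]
  exact Group.isSolvable_of_ker_le_range (D.subgroupOf (normalizer (D : Set Y))).subtype
    (QuotientGroup.mk' (D.subgroupOf (normalizer (D : Set Y)))) (by rw [QuotientGroup.ker_mk', range_subtype])

/-- some two-point stabilizer meets `M` nontrivially -/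
theorem exists_two [FaithfulSMul Y Ω] [IsPretransitive Y Ω]
    (hrad : ∀ N : Subgroup Y, N.Normal → Group.IsSolvable N → N = ⊥) {M : Subgroup Y} (hM : MNor M)
    {α : Ω} (hα : ∃ m ∈ M, m • α = α ∧ m ≠ 1) :
    ∃ α β : Ω, α ≠ β ∧ ∃ m ∈ M, m • α = α ∧ m • β = β ∧ m ≠ 1 := by
  classical
  by_contra hcon
  push Not at hcon
  have hn := hM.nor
  obtain ⟨m, hm, hmα, hm1⟩ := hα
  let F : Subgroup M := (stabilizer Y α).subgroupOf M
  have hF : IsFrobeniusComplement F := by
    refine ⟨?_, ?_, ?_⟩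
    · intro h1
      have h2 : (⟨m, hm⟩ : M) ∈ F := hmα
      rw [h1, mem_bot] at h2
      exact hm1 (congrArg Subtype.val h2)
    · intro h1
      apply hM.ne
      rw [eq_bot_iff]
      intro x hx
      rw [mem_bot]
      apply FaithfulSMul.eq_of_smul_eq_smul (α := Ω)
      intro ω
      obtain ⟨g, rfl⟩ := exists_smul_eq Y α ω
      have h2 : (⟨g⁻¹ * x * g, by simpa using hn.conj_mem x hx g⁻¹⟩ : M) ∈ F := by rw [h1]; trivial
      have h3 : (g⁻¹ * x * g) • α = α := h2
      rw [one_smul]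
      calc x • g • α = g • (g⁻¹ * x * g) • α := by
            rw [← mul_smul, ← mul_smul]
            congr 1
            group
        _ = g • α := by rw [h3]
    · intro g hg
      rw [eq_bot_iff]
      intro x hx
      obtain ⟨hx1, hx2⟩ := Subgroup.mem_inf.1 hx
      rw [hmem] at hx2
      have h2 : (x : Y) • α = α := hx1
      have h3 : ((g⁻¹ * x * g : M) : Y) • α = α := hx2
      have h4 : (x : Y) • (g : Y) • α = (g : Y) • α := by
        have h5 : (x : Y) • (g : Y) • α = (g : Y) • ((g⁻¹ * x * g : M) : Y) • α := by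
          rw [← mul_smul, ← mul_smul]
          congr 1
          push_cast
          group
        rw [h5, h3]
      rw [mem_bot]
      by_contra h5
      exact h5 (Subtype.ext (hcon α ((g : Y) • α) (fun h6 => hg h6.symm) x x.2 h2 h4))
  obtain ⟨N, hN, hNn, hcomp⟩ := S0035.result F hF
  obtain ⟨N', hN', -, hNnil⟩ := S0042.result F hF
  have hNN : N = N' := SetLike.coe_injective (hN.trans hN'.symm)
  rw [← hNN] at hNnil
  have h1 : Group.IsSolvable (N.map M.subtype) := by
    have h2 : Group.IsSolvable N := inferInstance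
    exact Group.isSolvable_of_surjective (f := (N.equivMapOfInjective M.subtype M.subtype_injective).toMonoidHom)
      (N.equivMapOfInjective M.subtype M.subtype_injective).surjective
  have h2 := solvable_eq_bot hrad hM (S := N.map M.subtype) (map_subtype_le N) (by
    rintro m hm _ ⟨x, hx, rfl⟩
    exact ⟨⟨m, hm⟩ * x * ⟨m, hm⟩⁻¹, hNn.conj_mem x hx _, rfl⟩) h1
  rw [Subgroup.map_eq_bot_iff_of_injective _ M.subtype_injective] at h2
  rw [h2] at hcomp
  exact hF.2.1 (isComplement'_bot_left.1 hcomp)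

/-- **LSP-J.** -/
theorem core_case [FaithfulSMul Y Ω] (h : Fix2 Y Ω)
    (hodd : ∀ α : Ω, Odd (Nat.card (MulAction.stabilizer Y α)))
    (hrad : ∀ N : Subgroup Y, N.Normal → Group.IsSolvable N → N = ⊥)
    (hK : ∀ M : Subgroup Y, IsSimpleGroup M → ¬ IsMulCommutative M → Cfsg.IsKnownSimple' M)
    (hA : ∀ (M : Subgroup Y), IsSimpleGroup M → ¬ IsMulCommutative M → ∀ (φ : MulAut M) (r : ℕ), r.Prime →
      orderOf φ = r → ¬ r ∣ Nat.card M → 2 < Nat.card {x : M // φ x = x}) :
    ∃ (M : Subgroup Y) (_ : M.Normal), IsSimpleGroup M ∧ ¬ IsMulCommutative M ∧ Odd M.index ∧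
      Subgroup.centralizer (M : Set Y) = ⊥ ∧ Cfsg.Agent.H355.OddCase.Concl M := by
  classical
  have hfix := h.fix
  have htr := h.tr
  -- a nontrivial stabilizer
  obtain ⟨g₀, hg₀, hg₀2⟩ := h.ex
  obtain ⟨ω₀⟩ : Nonempty (fixedBy Ω g₀) := by
    have h1 : 0 < Nat.card (fixedBy Ω g₀) := by omega
    exact (Nat.card_pos_iff.1 h1).1
  have hst : stabilizer Y (ω₀ : Ω) ≠ ⊥ := by
    intro h1
    have h2 : g₀ ∈ stabilizer Y (ω₀ : Ω) := ω₀.2
    rw [h1, mem_bot] at h2
    exact hg₀ h2
  have hnt : Nontrivial Y := ⟨⟨g₀, 1, hg₀⟩⟩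
  obtain ⟨M, hM⟩ := exists_mNor (Y := Y)
  have hn := hM.nor
  obtain ⟨α, β, hαβ, m, hm, hmα, hmβ, hm1⟩ := exists_two hrad hM (not_semi hfix hodd hrad hA hM hst)
  set D : Subgroup Y := stabilizer Y α ⊓ stabilizer Y β with hDdef
  have hmD : m ∈ D := ⟨hmα, hmβ⟩
  have hDne : D ≠ ⊥ := by
    intro h1
    rw [h1, mem_bot] at hmD
    exact hm1 hmD
  have hD : ETI D := eti hfix hαβ hDne
  have hDodd : Odd (Nat.card D) := (hodd α).of_dvd_nat (Subgroup.card_dvd_of_le inf_le_left)
  have hNs := normalizer_solvable hD hDodd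
  have hDs : Group.IsSolvable D := S0205.result hDodd
  have hsol : ∀ K : Subgroup Y, K ≤ normalizer (D : Set Y) → Group.IsSolvable K := fun K hK1 =>
    Group.isSolvable_of_isSolvable_injective (Subgroup.inclusion_injective hK1)
  have hcent : ∀ (K : Subgroup Y) (d : Y), d ∈ D → d ≠ 1 → (∀ k ∈ K, k * d = d * k) → Group.IsSolvable K :=
    fun K d hd hd1 hKd => hsol K fun k hk => hD.mem_normalizer_of_commute hd hd1 (hKd k hk)
  -- `M` is simple
  obtain ⟨E, hE, -⟩ := exists_fac (M := M) le_rfl hM.ne (fun m hm e he => hn.conj_mem e he m)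
  have hEs := hE.simple hrad hM
  have hEna : ¬ Group.IsSolvable E := by
    intro h1
    obtain ⟨a, ha, b, hb, hab⟩ := hE.nonab hrad hM
    exact hab (congrArg Subtype.val (IsSimpleGroup.comm_iff_isSolvable.2 h1 ⟨a, ha⟩ ⟨b, hb⟩))
  obtain ⟨e, he, f, hf, hfc, hef⟩ := hE.exists_mul hrad hM m hm
  have he1 : e ≠ 1 := by
    rintro rfl
    rw [one_mul] at hef
    exact hEna (hcent E m hmD hm1 fun k hk => by rw [hef, hfc k hk])
  have hcomm_em : e * m = m * e := by
    rw [hef, mul_assoc, ← hfc e he]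
  have heD : e ∈ D := by
    refine hD.mem_of_odd (hD.mem_normalizer_of_commute hmD hm1 hcomm_em) ?_
    have h1 : Odd (orderOf m) := hDodd.of_dvd_nat (Subgroup.orderOf_dvd_natCard D hmD)
    refine h1.of_dvd_nat ?_
    -- `e ^ n = 1`
    set n := orderOf m with hn'
    have h2 : e ^ n * f ^ n = 1 := by
      have h3 : Commute e f := hfc e he
      rw [← h3.mul_pow, ← hef]
      exact pow_orderOf_eq_one m
    have h3 : e ^ n = (f ^ n)⁻¹ := eq_inv_of_mul_eq_one_left h2
    have h4 : ∀ a ∈ E, a * e ^ n = e ^ n * a := by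
      intro a ha
      have h5 : Commute a f := hfc a ha
      rw [h3]
      exact (h5.pow_right n).inv_right
    apply orderOf_dvd_of_pow_eq_one
    -- the centre of `E` is trivial
    rcases hEs.eq_bot_or_eq_top_of_normal (center E) inferInstance with h5 | h5
    · have h6 : (⟨e ^ n, pow_mem he n⟩ : E) ∈ center E := by
        rw [mem_center_iff]
        intro y
        exact Subtype.ext (h4 y y.2)
      rw [h5, mem_bot] at h6
      exact congrArg Subtype.val h6
    · exfalso
      apply hEna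
      refine Group.isSolvable_of_comm fun a b => ?_
      have h6 : b ∈ center E := by rw [h5]; trivial
      exact mem_center_iff.1 h6 a
  have hCE : M ⊓ centralizer (E : Set Y) = ⊥ := by
    refine solvable_eq_bot hrad hM inf_le_left ?_ ?_
    · intro m hm x hx
      refine Subgroup.mem_inf.2 ⟨mul_mem (mul_mem hm hx.1) (inv_mem hm), mem_centralizer_iff.2 fun y hy => ?_⟩
      have h1 := hE.nor m⁻¹ (inv_mem hm) y hy
      rw [inv_inv] at h1
      have h2 := mem_centralizer_iff.1 hx.2 _ h1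
      calc y * (m * x * m⁻¹) = m * ((m⁻¹ * y * m) * x) * m⁻¹ := by group
        _ = m * (x * (m⁻¹ * y * m)) * m⁻¹ := by rw [h2]
        _ = m * x * m⁻¹ * y := by group
    · exact hcent _ e heD he1 fun k hk => (mem_centralizer_iff.1 hk.2 e he).symm
  have hME : M = E := by
    refine le_antisymm (fun x hx => ?_) hE.le
    obtain ⟨e', he', f', hf', hfc', rfl⟩ := hE.exists_mul hrad hM x hx
    have h1 : f' ∈ M ⊓ centralizer (E : Set Y) := ⟨hf', mem_centralizer_iff.2 hfc'⟩
    rw [hCE, mem_bot] at h1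
    rw [h1, mul_one]
    exact he'
  subst hME
  have hMna : ¬ IsMulCommutative M := fun h1 => hEna (Group.isSolvable_of_comm fun a b => h1.is_comm.comm a b)
  have hCM : centralizer (M : Set Y) = ⊥ := by
    refine hrad _ inferInstance (hcent _ m hmD hm1 fun k hk => (mem_centralizer_iff.1 hk m hm).symm)
  -- the subgroup `D ∩ M` of `M`
  set D₁ : Subgroup M := D.subgroupOf M with hD₁
  have hD₁ne : D₁ ≠ ⊥ := by
    intro h1
    have h2 : (⟨m, hm⟩ : M) ∈ D₁ := hmD
    rw [h1, mem_bot] at h2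
    exact hm1 (congrArg Subtype.val h2)
  have hti : ∀ g d : M, d ∈ D₁ → d ≠ 1 → g * d * g⁻¹ ∈ D₁ → g ∈ normalizer (D₁ : Set M) := by
    intro g d hd hd1 hgd
    have h1 := hD.ti g d hd (fun h2 => hd1 (Subtype.ext h2)) hgd
    rw [Subgroup.mem_normalizer_iff] at h1 ⊢
    intro x
    exact h1 x
  have hnorm : ∀ g : M, g ∈ normalizer (D₁ : Set M) → (g : Y) ∈ normalizer (D : Set Y) := by
    intro g hg
    have h1 : (⟨m, hm⟩ : M) ∈ D₁ := hmD
    exact hD.ti g m hmD hm1 ((Subgroup.mem_normalizer_iff.1 hg _).1 h1)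
  have hmul : ∀ a b : M, a ∈ normalizer (D₁ : Set M) → b ∈ normalizer (D₁ : Set M) → a ∉ D₁ → b ∉ D₁ →
      a * b ∈ D₁ := fun a b ha hb ha' hb' => hD.mul _ _ (hnorm a ha) (hnorm b hb) ha' hb'
  have hE₁ : ETI D₁ := ⟨hti, hmul⟩
  have hD₁top : D₁ ≠ ⊤ := by
    intro h1
    apply hEna
    refine hsol M (fun x hx => le_normalizer ?_)
    have h2 : (⟨x, hx⟩ : M) ∈ D₁ := by rw [h1]; trivial
    exact h2
  obtain ⟨y, hyN, hyD⟩ := exists_mem_normalizer hD₁ne hD₁top hti
  have hD₁odd : Odd (Nat.card D₁) := by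
    have h1 : Nat.card D₁ ∣ Nat.card D := Subgroup.card_comap_dvd_of_injective D M.subtype M.subtype_injective
    exact hDodd.of_dvd_nat h1
  have hTIH : TIH D₁ := by
    refine ⟨hD₁ne, hD₁odd, hti, ?_⟩
    rw [Subgroup.relIndex, Subgroup.index_eq_two_iff]
    refine ⟨⟨y, hyN⟩, fun b => ?_⟩
    rw [Subgroup.mem_subgroupOf, Subgroup.mem_subgroupOf]
    by_cases hb : (b : M) ∈ D₁
    · refine Or.inr ⟨hb, fun h4 => hyD ?_⟩
      exact (Subgroup.mul_mem_cancel_left _ hb).1 h4
    · exact Or.inl ⟨hmul _ _ b.2 hyN hb hyD, hb⟩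
  have hD₁s : commutator D₁ ≠ ⊤ := by
    have h1 : Group.IsSolvable D₁ := S0205.result hD₁odd
    have h2 : Nontrivial D₁ := (Subgroup.nontrivial_iff_ne_bot D₁).2 hD₁ne
    exact (Group.IsSolvable.commutator_lt_top_of_nontrivial D₁).ne
  refine ⟨M, hn, hEs, hMna, ?_, hCM, OddCase.classify hMna hTIH hD₁s (hK M hEs hMna)⟩
  -- odd index
  obtain ⟨p, hp, hpd⟩ := Nat.exists_prime_and_dvd (show Nat.card D₁ ≠ 1 from fun h1 =>
    hD₁ne (Subgroup.card_eq_one.1 h1))
  have : Fact p.Prime := ⟨hp⟩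
  have hp2 : p ≠ 2 := by
    rintro rfl
    exact (Nat.not_even_iff_odd.2 hD₁odd) (even_iff_two_dvd.2 hpd)
  obtain ⟨P, hP⟩ := hE₁.exists_sylow_le hp2 hpd
  have hPne : (P : Subgroup M) ≠ ⊥ := P.ne_bot_of_dvd_card (hpd.trans (Subgroup.card_subgroup_dvd_card D₁))
  have hfr := Sylow.normalizer_sup_eq_top P
  have h1 : (P : Subgroup M).map M.subtype ≤ D := by
    rintro _ ⟨x, hx, rfl⟩
    exact hP hx
  have h2 : normalizer (((P : Subgroup M).map M.subtype : Subgroup Y) : Set Y) ≤ normalizer (D : Set Y) :=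
    hD.normalizer_le h1 (fun h3 => hPne ((Subgroup.map_eq_bot_iff_of_injective _ M.subtype_injective).1 h3))
  have h3 : normalizer (D : Set Y) ≤ D ⊔ M := by
    intro a ha
    by_cases haD : a ∈ D
    · exact mem_sup_left haD
    · have h4 : a * y ∈ D := hD.mul a y ha (hnorm y hyN) haD hyD
      have h5 : a = (a * y) * (y : Y)⁻¹ := by group
      rw [h5]
      exact mul_mem (mem_sup_left h4) (mem_sup_right (inv_mem y.2))
  have h4 : D ⊔ M = ⊤ := by
    rw [eq_top_iff, ← hfr]
    exact sup_le (h2.trans h3) le_sup_right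
  have h5 : M.index ∣ Nat.card D := by
    have h6 : M.relIndex (D ⊔ M) = M.relIndex D := Subgroup.relIndex_sup_right _ _
    rw [h4, Subgroup.relIndex_top_right] at h6
    rw [h6]
    exact Subgroup.relIndex_dvd_card M D
  exact hDodd.of_dvd_nat h5

end Cfsg.Agent.H42.Lsp
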