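import Mathlib

/-!
# Minimal normal subgroups of groups without solvable normal subgroups (helper42, for S3392)

* `MNor M Y` : `M` is a minimal normal subgroup of `Y`;
* `Fac M E` : `E` is a minimal normal subgroup of `M`;
* `Fac.simple`, `Fac.nonab`, `Fac.exists_mul`: `E` is simple nonabelian and `M = E C_M(E)`;
* `solvable_eq_bot`: solvable normal subgroups of `M` are trivial.
-/

set_option autoImplicit false
set_option linter.unusedSectionVars false

namespace Cfsg.Agent.H42.Lsp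

open Subgroup
open scoped Pointwise commutatorElement

variable {Y : Type*} [Group Y]

/-- `M` is a minimal normal subgroup of `Y`. -/
structure MNor (M : Subgroup Y) : Prop where
  nor : M.Normal
  ne : M ≠ ⊥
  min : ∀ N : Subgroup Y, N.Normal → N ≤ M → N ≠ ⊥ → N = M

/-- `E` is a minimal normal subgroup of `M`. -/
structure Fac (M E : Subgroup Y) : Prop where
  le : E ≤ M
  nor : ∀ m ∈ M, ∀ e ∈ E, m * e * m⁻¹ ∈ E
  ne : E ≠ ⊥
  min : ∀ N : Subgroup Y, (∀ m ∈ M, ∀ e ∈ N, m * e * m⁻¹ ∈ N) → N ≤ E → N ≠ ⊥ → N = E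

theorem exists_mNor [Finite Y] [Nontrivial Y] : ∃ M : Subgroup Y, MNor M := by
  classical
  obtain ⟨M, hM⟩ : ∃ M : Subgroup Y, Minimal (fun M : Subgroup Y => M.Normal ∧ M ≠ ⊥) M :=
    (Set.toFinite {M : Subgroup Y | M.Normal ∧ M ≠ ⊥}).exists_minimal ⟨⊤, inferInstance, top_ne_bot⟩
  exact ⟨M, hM.prop.1, hM.prop.2, fun N h1 h2 h3 => le_antisymm h2 (hM.le_of_le ⟨h1, h3⟩ h2)⟩

theorem exists_fac [Finite Y] {M S : Subgroup Y} (hSM : S ≤ M) (hS : S ≠ ⊥)
    (hn : ∀ m ∈ M, ∀ e ∈ S, m * e * m⁻¹ ∈ S) : ∃ E : Subgroup Y, Fac M E ∧ E ≤ S := by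
  classical
  obtain ⟨E, hE⟩ : ∃ E : Subgroup Y, Minimal (fun E : Subgroup Y => (∀ m ∈ M, ∀ e ∈ E, m * e * m⁻¹ ∈ E) ∧
      E ≤ S ∧ E ≠ ⊥) E :=
    (Set.toFinite {E : Subgroup Y | (∀ m ∈ M, ∀ e ∈ E, m * e * m⁻¹ ∈ E) ∧ E ≤ S ∧ E ≠ ⊥}).exists_minimal
      ⟨S, hn, le_rfl, hS⟩
  exact ⟨E, ⟨hE.prop.2.1.trans hSM, hE.prop.1, hE.prop.2.2,
    fun N h1 h2 h3 => le_antisymm h2 (hE.le_of_le ⟨h1, h2.trans hE.prop.2.1, h3⟩ h2)⟩, hE.prop.2.1⟩

theorem hmem (N : Subgroup Y) (y x : Y) : x ∈ MulAut.conj y • N ↔ y⁻¹ * x * y ∈ N := by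
  rw [Subgroup.mem_pointwise_smul_iff_inv_smul_mem]
  simp [MulAut.smul_def]

/-- conjugates of a factor -/
theorem Fac.conj {M E : Subgroup Y} (hM : M.Normal) (h : Fac M E) (y : Y) : Fac M (MulAut.conj y • E) := by
  refine ⟨?_, ?_, ?_, ?_⟩
  · intro x hx
    rw [hmem] at hx
    have h1 := hM.conj_mem _ (h.le hx) y
    have e : y * (y⁻¹ * x * y) * y⁻¹ = x := by group
    rwa [e] at h1
  · intro m hm x hx
    rw [hmem] at hx ⊢
    have h1 := h.nor (y⁻¹ * m * y) (by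
      have := hM.conj_mem m hm y⁻¹
      rwa [inv_inv] at this) _ hx
    have e : (y⁻¹ * m * y) * (y⁻¹ * x * y) * (y⁻¹ * m * y)⁻¹ = y⁻¹ * (m * x * m⁻¹) * y := by group
    rwa [e] at h1
  · intro h1
    apply h.ne
    rw [eq_bot_iff]
    intro x hx
    have h2 : y * x * y⁻¹ ∈ MulAut.conj y • E := by
      rw [hmem]
      have e : y⁻¹ * (y * x * y⁻¹) * y = x := by group
      rwa [e]
    rw [h1, mem_bot] at h2
    rw [mem_bot]
    have e : x = y⁻¹ * (y * x * y⁻¹) * y := by group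
    rw [e, h2]
    group
  · intro N hN hNE hN1
    have h1 : MulAut.conj y⁻¹ • N = E := by
      refine h.min _ ?_ ?_ ?_
      · intro m hm x hx
        rw [hmem, inv_inv] at hx ⊢
        have h2 := hN (y * m * y⁻¹) (hM.conj_mem m hm y) _ hx
        have e : (y * m * y⁻¹) * (y * x * y⁻¹) * (y * m * y⁻¹)⁻¹ = y * (m * x * m⁻¹) * y⁻¹ := by group
        rwa [e] at h2
      · intro x hx
        rw [hmem, inv_inv] at hx
        have h2 := hNE hx
        rw [hmem] at h2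
        have e : y⁻¹ * (y * x * y⁻¹) * y = x := by group
        rwa [e] at h2
      · intro h2
        apply hN1
        rw [eq_bot_iff]
        intro x hx
        have h3 : y⁻¹ * x * y ∈ MulAut.conj y⁻¹ • N := by
          rw [hmem, inv_inv]
          have e : y * (y⁻¹ * x * y) * y⁻¹ = x := by group
          rwa [e]
        rw [h2, mem_bot] at h3
        rw [mem_bot]
        have e : x = y * (y⁻¹ * x * y) * y⁻¹ := by group
        rw [e, h3]
        group
    rw [← h1]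
    ext x
    rw [hmem, hmem, inv_inv]
    have e : y * (y⁻¹ * x * y) * y⁻¹ = x := by group
    rw [e]

/-- two distinct factors commute -/
theorem Fac.comm {M E F : Subgroup Y} (h : Fac M E) (h' : Fac M F) (hne : E ≠ F) :
    ∀ a ∈ E, ∀ b ∈ F, a * b = b * a := by
  have hbot : E ⊓ F = ⊥ := by
    by_contra h1
    have hn : ∀ m ∈ M, ∀ e ∈ E ⊓ F, m * e * m⁻¹ ∈ E ⊓ F := fun m hm e he =>
      ⟨h.nor m hm e he.1, h'.nor m hm e he.2⟩
    exact hne ((h.min _ hn inf_le_left h1).symm.trans (h'.min _ hn inf_le_right h1))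
  intro a ha b hb
  have h1 : ⁅a, b⁆ ∈ E ⊓ F := by
    constructor
    · show ⁅a, b⁆ ∈ E
      rw [commutatorElement_def]
      have h2 := h.nor b (h'.le hb) a⁻¹ (inv_mem ha)
      have e : a * b * a⁻¹ * b⁻¹ = a * (b * a⁻¹ * b⁻¹) := by group
      rw [e]
      exact mul_mem ha h2
    · show ⁅a, b⁆ ∈ F
      rw [commutatorElement_def]
      exact mul_mem (h'.nor a (h.le ha) b hb) (inv_mem hb)
  rw [hbot, mem_bot, commutatorElement_eq_one_iff_mul_comm] at h1
  exact h1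

section
variable [Finite Y] (hrad : ∀ N : Subgroup Y, N.Normal → Group.IsSolvable N → N = ⊥)
  {M E : Subgroup Y} (hM : MNor M) (h : Fac M E)
include hrad hM h

theorem Fac.exists_mul : ∀ m ∈ M, ∃ e ∈ E, ∃ f ∈ M, (∀ x ∈ E, x * f = f * x) ∧ m = e * f := by
  -- `M` is generated by the conjugates
  have hn := hM.nor
  let K : Subgroup Y := Subgroup.closure (⋃ y : Y, ((MulAut.conj y • E : Subgroup Y) : Set Y))
  have hKn : K.Normal := by
    refine ⟨fun x hx g => ?_⟩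
    have h1 : K ≤ (MulAut.conj g⁻¹ • K : Subgroup Y) := by
      rw [Subgroup.closure_le]
      intro z hz
      obtain ⟨y, hy⟩ := Set.mem_iUnion.1 hz
      show z ∈ (MulAut.conj g⁻¹ • K : Subgroup Y)
      rw [hmem, inv_inv]
      apply Subgroup.subset_closure
      refine Set.mem_iUnion.2 ⟨g * y, ?_⟩
      show _ ∈ (MulAut.conj (g * y) • E : Subgroup Y)
      have hy' : z ∈ (MulAut.conj y • E : Subgroup Y) := hy
      rw [hmem] at hy' ⊢
      have e : (g * y)⁻¹ * (g * z * g⁻¹) * (g * y) = y⁻¹ * z * y := by group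
      rwa [e]
    have h2 := h1 hx
    rw [hmem, inv_inv] at h2
    exact h2
  have hEK : E ≤ K := by
    intro x hx
    apply Subgroup.subset_closure
    exact Set.mem_iUnion.2 ⟨1, by simpa using hx⟩
  have hKM : K ≤ M := by
    rw [Subgroup.closure_le]
    intro z hz
    obtain ⟨y, hy⟩ := Set.mem_iUnion.1 hz
    exact (h.conj hn y).le hy
  have hKeq : K = M := hM.min K hKn hKM (fun h1 => h.ne (le_bot_iff.1 (h1 ▸ hEK)))
  let C : Subgroup Y := M ⊓ centralizer (E : Set Y)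
  have hKC : K ≤ E ⊔ C := by
    rw [Subgroup.closure_le]
    intro z hz
    obtain ⟨y, hy⟩ := Set.mem_iUnion.1 hz
    by_cases h1 : E = MulAut.conj y • E
    · exact mem_sup_left (by rw [h1]; exact hy)
    · refine mem_sup_right ⟨(h.conj hn y).le hy, mem_centralizer_iff.2 fun x hx => ?_⟩
      exact h.comm (h.conj hn y) h1 x hx z hy
  intro m hm
  rw [← hKeq] at hm
  have h1 := hKC hm
  have hle : C ≤ normalizer (E : Set Y) := by
    intro c hc
    rw [mem_normalizer_iff]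
    intro x
    constructor
    · intro hx
      exact h.nor c hc.1 x hx
    · intro hx
      have h2 := h.nor c⁻¹ (inv_mem hc.1) _ hx
      have e : c⁻¹ * (c * x * c⁻¹) * c⁻¹⁻¹ = x := by group
      rwa [e] at h2
  have h2 : m ∈ ((E ⊔ C : Subgroup Y) : Set Y) := h1
  rw [Subgroup.coe_mul_of_right_le_normalizer_left _ _ hle] at h2
  obtain ⟨e, he, f, hf, hef⟩ := Set.mem_mul.1 h2
  exact ⟨e, he, f, hf.1, fun x hx => mem_centralizer_iff.1 hf.2 x hx, hef.symm⟩

/-- `E` is not abelian. -/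
theorem Fac.nonab : ∃ a ∈ E, ∃ b ∈ E, a * b ≠ b * a := by
  by_contra hcon
  push Not at hcon
  have hn := hM.nor
  have hC : M ⊓ centralizer (M : Set Y) = ⊥ := by
    refine hrad _ inferInstance (Group.isSolvable_of_comm fun a b => Subtype.ext ?_)
    exact (mem_centralizer_iff.1 b.2.2 a a.2.1)
  apply h.ne
  rw [eq_bot_iff, ← hC]
  intro x hx
  refine ⟨h.le hx, mem_centralizer_iff.2 fun m hm => ?_⟩
  obtain ⟨e, he, f, hf, hfc, rfl⟩ := h.exists_mul hrad hM m hm
  rw [mul_assoc, ← hfc x hx, ← mul_assoc, hcon e he x hx, mul_assoc]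

theorem Fac.simple : IsSimpleGroup E := by
  obtain ⟨a, ha, b, hb, hab⟩ := h.nonab hrad hM
  have hnt : Nontrivial E := ⟨⟨⟨a, ha⟩, 1, fun h1 => hab (by
    have : a = 1 := congrArg Subtype.val h1
    rw [this, one_mul, mul_one])⟩⟩
  refine ⟨fun N hN => ?_⟩
  by_cases hN1 : N = ⊥
  · exact Or.inl hN1
  right
  have h1 : N.map E.subtype = E := by
    refine h.min _ ?_ (Subgroup.map_subtype_le N) (fun h2 => hN1 ?_)
    · rintro m hm _ ⟨x, hx, rfl⟩
      obtain ⟨e, he, f, hf, hfc, rfl⟩ := h.exists_mul hrad hM m hm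
      refine ⟨⟨e, he⟩ * x * ⟨e, he⟩⁻¹, hN.conj_mem x hx _, ?_⟩
      show e * (x : Y) * e⁻¹ = e * f * x * (e * f)⁻¹
      have h2 := hfc x x.2
      have e2 : e * f * (x : Y) * (e * f)⁻¹ = e * (f * x) * f⁻¹ * e⁻¹ := by group
      rw [e2, ← h2]
      group
    · exact (Subgroup.map_eq_bot_iff_of_injective N E.subtype_injective).1 h2
  rw [eq_top_iff]
  intro x _
  have h2 : (x : Y) ∈ N.map E.subtype := by rw [h1]; exact x.2
  obtain ⟨y, hy, hyx⟩ := h2
  have h3 : y = x := Subtype.ext hyx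
  rwa [← h3]

omit h in
/-- solvable normal subgroups of `M` are trivial -/
theorem solvable_eq_bot {S : Subgroup Y} (hSM : S ≤ M) (hn : ∀ m ∈ M, ∀ e ∈ S, m * e * m⁻¹ ∈ S)
    (hs : Group.IsSolvable S) : S = ⊥ := by
  by_contra hS
  obtain ⟨F, hF, hFS⟩ := exists_fac hSM hS hn
  obtain ⟨a, ha, b, hb, hab⟩ := hF.nonab hrad hM
  have h1 := hF.simple hrad hM
  have h2 : Group.IsSolvable F := Group.isSolvable_of_isSolvable_injective (Subgroup.inclusion_injective hFS)
  have h3 := (IsSimpleGroup.comm_iff_isSolvable (G := F)).2 h2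
  exact hab (congrArg Subtype.val (h3 ⟨a, ha⟩ ⟨b, hb⟩))

end

end Cfsg.Agent.H42.Lsp
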