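import Cfsg.Agent.H42.Lsp.MinNor
import Cfsg.Agent.H355.LspDefs
import Cfsg.Agent.Involutions.NormalFour

/-!
# S3392: minimal normal subgroups are not semiregular (helper42)
-/

set_option autoImplicit false
set_option linter.unusedSectionVars false

namespace Cfsg.Agent.H42.Lsp

open Subgroup MulAction Cfsg.Agent.H355.Lsp
open scoped Pointwise commutatorElement

section pow
variable {Y : Type*} [Group Y]

/-- `(x g)^k = x w g^k` with `w` centralizing `E` -/
theorem pow_eq {E : Subgroup Y} {g x : Y} {r : ℕ}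
    (hc : ∀ k, 1 ≤ k → k < r → ∀ a ∈ E, ∀ b ∈ E, a * (g ^ k * b * (g ^ k)⁻¹) = (g ^ k * b * (g ^ k)⁻¹) * a)
    (hx : x ∈ E) (k : ℕ) (hk : k + 1 ≤ r) : ∃ w : Y, (∀ a ∈ E, a * w = w * a) ∧
      (x * g) ^ (k + 1) = x * w * g ^ (k + 1) := by
  induction k with
  | zero => exact ⟨1, fun a _ => by rw [mul_one, one_mul], by rw [zero_add, pow_one, pow_one, mul_one]⟩
  | succ k ih =>
    obtain ⟨w, hw, h1⟩ := ih (by omega)
    refine ⟨w * (g ^ (k + 1) * x * (g ^ (k + 1))⁻¹), fun a ha => ?_, ?_⟩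
    · rw [← mul_assoc, hw a ha, mul_assoc, hc (k + 1) (by omega) (by omega) a ha x hx, ← mul_assoc]
    · rw [pow_succ, h1, pow_succ g (k + 1)]
      group

theorem exists_inj {E : Subgroup Y} {g : Y} {r : ℕ} (hr : 1 ≤ r) (hgr : g ^ r = 1)
    (hc : ∀ k, 1 ≤ k → k < r → ∀ a ∈ E, ∀ b ∈ E, a * (g ^ k * b * (g ^ k)⁻¹) = (g ^ k * b * (g ^ k)⁻¹) * a)
    (hE : ∀ e ∈ E, (∀ a ∈ E, a * e = e * a) → e = 1) :
    Function.Injective (fun x : E => ((x : Y) * g) ^ r) ∧
      ∀ x : E, ((x : Y) * g) ^ r * g = g * ((x : Y) * g) ^ r := by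
  obtain ⟨k, rfl⟩ : ∃ k, r = k + 1 := ⟨r - 1, by omega⟩
  have key : ∀ x ∈ E, ∃ w : Y, (∀ a ∈ E, a * w = w * a) ∧ (x * g) ^ (k + 1) = x * w := by
    intro x hx
    obtain ⟨w, hw, h1⟩ := pow_eq hc hx k le_rfl
    exact ⟨w, hw, by rw [h1, hgr, mul_one]⟩
  constructor
  · intro x y hxy
    obtain ⟨w, hw, h1⟩ := key x x.2
    obtain ⟨w', hw', h2⟩ := key y y.2
    have h3 : (x : Y) * w = y * w' := by rw [← h1, ← h2]; exact hxy
    have h4 : (y : Y)⁻¹ * x = w' * w⁻¹ := by
      rw [inv_mul_eq_iff_eq_mul, ← mul_assoc, ← h3, mul_inv_cancel_right]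
    have h5 := hE ((y : Y)⁻¹ * x) (mul_mem (inv_mem y.2) x.2) (fun a ha => by
      rw [h4, ← mul_assoc, hw' a ha, mul_assoc, mul_assoc]
      congr 1
      rw [eq_inv_mul_iff_mul_eq, ← mul_assoc, ← hw a ha, mul_inv_cancel_right])
    exact Subtype.ext (inv_mul_eq_one.1 h5).symm
  · intro x
    obtain ⟨w, hw, h1⟩ := key x x.2
    have h2 : (x : Y) * ((x : Y) * g) ^ (k + 1) = ((x : Y) * g) ^ (k + 1) * x := by
      rw [h1, mul_assoc, ← hw x x.2]
    have h3 : (x : Y) * g * ((x : Y) * g) ^ (k + 1) = ((x : Y) * g) ^ (k + 1) * ((x : Y) * g) := by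
      rw [← pow_succ', ← pow_succ]
    have h4 : g = (x : Y)⁻¹ * ((x : Y) * g) := by group
    have h5 : (x : Y)⁻¹ * ((x : Y) * g) ^ (k + 1) = ((x : Y) * g) ^ (k + 1) * (x : Y)⁻¹ := by
      rw [inv_mul_eq_iff_eq_mul, ← mul_assoc, h2, mul_inv_cancel_right]
    generalize hν : ((x : Y) * g) ^ (k + 1) = ν at *
    calc ν * g = ν * ((x : Y)⁻¹ * ((x : Y) * g)) := by rw [← h4]
      _ = (ν * (x : Y)⁻¹) * ((x : Y) * g) := by rw [mul_assoc]
      _ = (x : Y)⁻¹ * (ν * ((x : Y) * g)) := by rw [← h5, mul_assoc]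
      _ = (x : Y)⁻¹ * ((x : Y) * g * ν) := by rw [h3]
      _ = g * ν := by group

end pow

section
variable {Y : Type*} [Group Y] [Finite Y] {Ω : Type*} [Finite Ω] [MulAction Y Ω]

/-- semiregular subgroups: the centralizer of an element fixing a point is small -/
theorem card_le_two (hfix : ∀ g : Y, g ≠ 1 → Nat.card (fixedBy Ω g) ≤ 2) {M : Subgroup Y} {α : Ω}
    (hM : ∀ m ∈ M, m • α = α → m = 1) {g : Y} (hg1 : g ≠ 1) (hg : g • α = α) {T : Type*} (f : T → Y)
    (hf : Function.Injective f) (hfM : ∀ t, f t ∈ M) (hfg : ∀ t, f t * g = g * f t) : Nat.card T ≤ 2 := by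
  refine le_trans ?_ (hfix g hg1)
  refine Nat.card_le_card_of_injective (fun t => (⟨f t • α, ?_⟩ : fixedBy Ω g)) ?_
  · rw [mem_fixedBy, ← mul_smul, ← hfg, mul_smul, hg]
  · intro s t hst
    have h1 : f s • α = f t • α := congrArg Subtype.val hst
    apply hf
    have h2 : ((f t)⁻¹ * f s) • α = α := by rw [mul_smul, h1, inv_smul_smul]
    have h3 := hM _ (mul_mem (inv_mem (hfM t)) (hfM s)) h2
    exact (inv_mul_eq_one.1 h3).symm

theorem not_semi (hfix : ∀ g : Y, g ≠ 1 → Nat.card (fixedBy Ω g) ≤ 2)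
    (hodd : ∀ α : Ω, Odd (Nat.card (stabilizer Y α)))
    (hrad : ∀ N : Subgroup Y, N.Normal → Group.IsSolvable N → N = ⊥)
    (hA : ∀ (M : Subgroup Y), IsSimpleGroup M → ¬ IsMulCommutative M → ∀ (φ : MulAut M) (r : ℕ), r.Prime →
      orderOf φ = r → ¬ r ∣ Nat.card M → 2 < Nat.card {x : M // φ x = x})
    {M : Subgroup Y} (hM : MNor M) {α : Ω} (hα : stabilizer Y α ≠ ⊥) :
    ∃ m ∈ M, m • α = α ∧ m ≠ 1 := by
  classical
  by_contra hcon
  push Not at hcon
  have hn := hM.nor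
  have hsemi : ∀ m ∈ M, m • α = α → m = 1 := fun m h1 h2 => hcon m h1 h2
  -- `g` of odd prime order
  have hc1 : Nat.card (stabilizer Y α) ≠ 1 := fun h1 => hα (Subgroup.card_eq_one.1 h1)
  obtain ⟨r, hr, hrd⟩ := Nat.exists_prime_and_dvd hc1
  have : Fact r.Prime := ⟨hr⟩
  obtain ⟨g, hgr⟩ := exists_prime_orderOf_dvd_card' r hrd
  have hr2 : r ≠ 2 := by
    rintro rfl
    exact (Nat.not_even_iff_odd.2 (hodd α)) (even_iff_two_dvd.2 hrd)
  have hr3 : 3 ≤ r := by have := hr.two_le; omega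
  obtain ⟨g, hgα⟩ := g
  rw [Subgroup.orderOf_mk] at hgr
  have hg1 : g ≠ 1 := by
    rintro rfl
    rw [orderOf_one] at hgr
    omega
  have hgr1 : g ^ r = 1 := by rw [← hgr]; exact pow_orderOf_eq_one g
  have hsmall := fun {T : Type _} (f : T → Y) => card_le_two (T := T) hfix hsemi hg1 hgα f
  -- `r` does not divide `|M|`
  have hrM : ¬ r ∣ Nat.card M := by
    intro hrM
    have hgp : IsPGroup r (zpowers g) := by
      rw [IsPGroup.iff_card]
      exact ⟨1, by rw [Nat.card_zpowers, hgr, pow_one]⟩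
    obtain ⟨S, hS⟩ := hgp.exists_le_sylow
    have hgS : g ∈ (S : Subgroup Y) := hS (mem_zpowers g)
    let Q : Subgroup S := M.subgroupOf S
    have hQ : Q ≠ ⊥ := by
      intro h1
      -- the Sylow subgroup of `M`
      obtain ⟨R⟩ : Nonempty (Sylow r M) := inferInstance
      have hRp : IsPGroup r ((R : Subgroup M).map M.subtype) := R.isPGroup'.map _
      obtain ⟨y, hy⟩ := hRp.exists_le_sylow
      obtain ⟨u, hu⟩ := exists_smul_eq Y y S
      have hRne : (R : Subgroup M) ≠ ⊥ := R.ne_bot_of_dvd_card hrM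
      apply hRne
      rw [eq_bot_iff]
      intro x hx
      have h2 : (x : Y) ∈ (y : Subgroup Y) := hy ⟨x, hx, rfl⟩
      have h3 : u * x * u⁻¹ ∈ (S : Subgroup Y) := by
        rw [← hu]
        show u * (x : Y) * u⁻¹ ∈ (MulAut.conj u • (y : Subgroup Y))
        rw [hmem]
        have e : u⁻¹ * (u * (x : Y) * u⁻¹) * u = x := by group
        rwa [e]
      have h4 : (⟨u * x * u⁻¹, h3⟩ : S) ∈ Q := hn.conj_mem x x.2 u
      rw [h1, mem_bot] at h4
      have h5 : u * (x : Y) * u⁻¹ = 1 := congrArg Subtype.val h4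
      rw [mem_bot]
      apply Subtype.ext
      have e : (x : Y) = u⁻¹ * (u * x * u⁻¹) * u := by group
      rw [e, h5, mul_one, inv_mul_cancel, Subgroup.coe_one]
    have hSp : IsPGroup r S := S.isPGroup'
    have hQn : Q.Normal := inferInstance
    -- `Q` meets the center
    obtain ⟨z, hzQ, hzc, hz1⟩ := Cfsg.Agent.Involutions.NormalFour.exists_mem_center_of_normal hSp Q hQ
    have h6 : Nat.card (zpowers (z : Y)) ≤ 2 := by
      refine hsmall (T := zpowers (z : Y)) (fun t => (t : Y)) Subtype.val_injective ?_ ?_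
      · intro t
        exact (zpowers_le.2 (show (z : Y) ∈ M from hzQ)) t.2
      · rintro ⟨_, k, rfl⟩
        have h7 : Commute (z : Y) g := congrArg Subtype.val (mem_center_iff.1 hzc ⟨g, hgS⟩).symm
        exact h7.zpow_left k
    rw [Nat.card_zpowers, Subgroup.orderOf_coe, hz1] at h6
    omega
  obtain ⟨E, hE, -⟩ := exists_fac (M := M) le_rfl hM.ne (fun m hm e he => hn.conj_mem e he m)
  obtain ⟨a, ha, b, hb, hab⟩ := hE.nonab hrad hM
  have hEs := hE.simple hrad hM
  have hEna : ¬ IsMulCommutative E := fun h1 => hab (congrArg Subtype.val (h1.is_comm.comm ⟨a, ha⟩ ⟨b, hb⟩))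
  have hEcard : ¬ Nat.card E ≤ 2 := by
    intro h1
    have h2 : 0 < Nat.card E := Nat.card_pos
    have h3 : Nat.card E = 1 ∨ Nat.card E = 2 := by omega
    apply hEna
    rcases h3 with h3 | h3
    · have h4 := (Nat.card_eq_one_iff_unique.1 h3).1
      exact ⟨⟨fun a b => Subsingleton.elim _ _⟩⟩
    · have : Fact (Nat.Prime 2) := ⟨Nat.prime_two⟩
      have hc : IsCyclic E := isCyclic_of_prime_card h3
      exact ⟨⟨fun a b => (IsCyclic.commGroup (α := E)).mul_comm a b⟩⟩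
  have hEcen : ∀ e ∈ E, (∀ a ∈ E, a * e = e * a) → e = 1 := by
    intro e he hec
    rcases hEs.eq_bot_or_eq_top_of_normal (center E) inferInstance with h1 | h1
    · have h2 : (⟨e, he⟩ : E) ∈ center E := by
        rw [mem_center_iff]
        intro y
        exact Subtype.ext (hec y y.2)
      rw [h1, mem_bot] at h2
      exact congrArg Subtype.val h2
    · exfalso
      apply hEna
      refine ⟨⟨fun a b => ?_⟩⟩
      have h2 : b ∈ center E := by rw [h1]; trivial
      exact mem_center_iff.1 h2 a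
  have hNE : ∀ y : Y, MulAut.conj y • E = E ↔ y ∈ normalizer (E : Set Y) := by
    intro y
    constructor
    · intro h1
      rw [mem_normalizer_iff]
      intro x
      have h2 : y * x * y⁻¹ ∈ MulAut.conj y • E ↔ x ∈ E := by
        rw [hmem]
        have e : y⁻¹ * (y * x * y⁻¹) * y = x := by group
        rw [e]
      rw [← h2, h1]
    · intro h1
      ext x
      rw [hmem]
      have h2 := mem_normalizer_iff.1 h1 (y⁻¹ * x * y)
      have e : y * (y⁻¹ * x * y) * y⁻¹ = x := by group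
      rw [e] at h2
      exact h2
  by_cases hEg : MulAut.conj g • E = E
  · -- `g` normalizes `E`
    have hgN := (hNE g).1 hEg
    let φ : MulAut E := E.normalizerMonoidHom ⟨g, hgN⟩
    have hφ : ∀ x : E, ((φ x : E) : Y) = g * x * g⁻¹ := fun x => rfl
    have hφr : φ ^ r = 1 := by
      have h1 : (⟨g, hgN⟩ : normalizer (E : Set Y)) ^ r = 1 := Subtype.ext hgr1
      show (E.normalizerMonoidHom ⟨g, hgN⟩) ^ r = 1
      rw [← map_pow, h1, map_one]
    rcases (Nat.dvd_prime hr).1 (orderOf_dvd_of_pow_eq_one hφr) with h1 | h1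
    · rw [orderOf_eq_one_iff] at h1
      refine hEcard (hsmall (T := E) (fun x => (x : Y)) Subtype.val_injective (fun x => hE.le x.2) fun x => ?_)
      have h2 := hφ x
      rw [h1] at h2
      have h3 : (x : Y) = g * x * g⁻¹ := h2
      exact (eq_mul_inv_iff_mul_eq.1 h3)
    · have h2 := hA E hEs hEna φ r hr h1 (fun h3 => hrM (h3.trans (Subgroup.card_dvd_of_le hE.le)))
      refine absurd (hsmall (T := {x : E // φ x = x}) (fun x => ((x : E) : Y))
        (Subtype.val_injective.comp Subtype.val_injective) (fun x => hE.le x.1.2) fun x => ?_) (not_le.2 h2)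
      have h3 := hφ x.1
      rw [x.2] at h3
      exact (eq_mul_inv_iff_mul_eq.1 h3)
  · -- `g` moves `E`
    have hpow : ∀ k, 1 ≤ k → k < r → MulAut.conj (g ^ k) • E ≠ E := by
      intro k hk1 hkr h1
      apply hEg
      rw [hNE] at h1 ⊢
      have h2 : g ∈ zpowers (g ^ k) := by
        rw [mem_zpowers_pow_iff, hgr]
        exact (Nat.coprime_of_lt_prime (by omega) hkr hr).symm
      exact (zpowers_le.2 h1) h2
    have hc : ∀ k, 1 ≤ k → k < r → ∀ a ∈ E, ∀ b ∈ E, a * (g ^ k * b * (g ^ k)⁻¹) = (g ^ k * b * (g ^ k)⁻¹) * a := by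
      intro k hk1 hkr a ha b hb
      refine hE.comm (hE.conj hn (g ^ k)) (hpow k hk1 hkr).symm a ha _ ?_
      rw [hmem]
      have e : (g ^ k)⁻¹ * (g ^ k * b * (g ^ k)⁻¹) * g ^ k = b := by group
      rwa [e]
    obtain ⟨h1, h2⟩ := exists_inj (E := E) (by omega) hgr1 hc hEcen
    refine hEcard (hsmall (T := E) _ h1 (fun x => ?_) h2)
    have h3 : ((x : Y) * g) ^ r * (g ^ r)⁻¹ ∈ M := by
      rw [← QuotientGroup.eq_one_iff (N := M), QuotientGroup.mk_mul, QuotientGroup.mk_inv, QuotientGroup.mk_pow,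
        QuotientGroup.mk_mul, QuotientGroup.mk_pow, (QuotientGroup.eq_one_iff (x : Y)).2 (hE.le x.2), one_mul,
        mul_inv_cancel]
    rwa [hgr1, inv_one, mul_one] at h3

end

end Cfsg.Agent.H42.Lsp
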